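import Mathlib.Algebra.Homology.TotalComplex
import Mathlib.Algebra.Homology.QuasiIso
import Mathlib.Algebra.Homology.HomologicalComplexAbelian
import Mathlib.Algebra.Homology.HomologySequenceLemmas
import Mathlib.Algebra.Homology.Additive
import Mathlib.Algebra.Homology.SingleHomology
import Mathlib.Order.Interval.Finset.Defs
import Mathlib.Data.Int.Interval
import Mathlib.Data.Fintype.Sets

/-!
# Total complexes of bounded below double complexes preserve quasi-isomorphisms
-/

set_option autoImplicit false

universe v u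

open CategoryTheory CategoryTheory.Limits

noncomputable section

namespace Groth.TotQIso

local notation "up" => ComplexShape.up ℤ

variable {A : Type u} [Category.{v} A] [Abelian A]

/-- The double complex vanishes outside of the quadrant `p ≥ a`, `q ≥ b`. -/
def Bdd (K : HomologicalComplex₂ A up up) (a b : ℤ) : Prop :=
  ∀ p q : ℤ, p < a ∨ q < b → IsZero ((K.X p).X q)

/-- The short complex at a bidegree of a short complex of double complexes. -/
abbrev pt (S : ShortComplex (HomologicalComplex₂ A up up)) (p q : ℤ) : ShortComplex A :=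
  S.map (HomologicalComplex.eval (HomologicalComplex A up) up p ⋙ HomologicalComplex.eval A up q)

/-- The complex of the terms with fixed second index. -/
abbrev rowF (q : ℤ) : HomologicalComplex₂ A up up ⥤ HomologicalComplex A up :=
  (HomologicalComplex.eval A up q).mapHomologicalComplex up

lemma hasTotal_of_bdd (K : HomologicalComplex₂ A up up) (a b : ℤ) (h : Bdd K a b) :
    K.HasTotal up := by
  classical
  intro n
  let ι := (ComplexShape.π up up up) ⁻¹' ({n} : Set ℤ)
  let X : ι → A := fun x => K.toGradedObject x.1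
  let S : Type := ↥(Finset.Icc a (n - b))
  have : Finite S := inferInstanceAs (Finite ↥(Finset.Icc a (n - b)))
  let e : S → ι := fun i => ⟨(i.1, n - i.1), show i.1 + (n - i.1) = n by omega⟩
  have hz : ∀ x : ι, (∀ i : S, e i ≠ x) → IsZero (X x) := by
    rintro ⟨⟨p, q⟩, hpq⟩ hne
    have hpq' : p + q = n := hpq
    refine h p q ?_
    by_contra hc
    exact hne ⟨p, Finset.mem_Icc.2 (by omega)⟩ (Subtype.ext (Prod.ext rfl (by
      change n - p = q; omega)))
  have he : Function.Injective e := fun i j hij => by
    have := congrArg (fun x : ι => x.1.1) hij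
    exact Subtype.ext this
  let Y : S → A := fun i => X (e i)
  let inj : ∀ x : ι, X x ⟶ ∐ Y := fun x =>
    if hx : ∃ i, e i = x then eqToHom (congrArg X hx.choose_spec).symm ≫ Sigma.ι Y hx.choose else 0
  have hc : ∀ i : S, inj (e i) = Sigma.ι Y i := by
    intro i
    have hx : ∃ j, e j = e i := ⟨i, rfl⟩
    simp only [inj, dif_pos hx]
    exact Sigma.eqToHom_comp_ι Y (he hx.choose_spec).symm
  exact HasColimit.mk ⟨Cofan.mk _ inj, Cofan.IsColimit.mk _
    (fun s => Sigma.desc fun i => s.inj (e i))
    (fun s x => by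
      by_cases hx : ∃ i, e i = x
      · obtain ⟨i, rfl⟩ := hx
        exact (congrArg (fun g => g ≫ Sigma.desc _) (hc i)).trans (Sigma.ι_desc _ _)
      · exact (hz x (by simpa using hx)).eq_of_src _ _)
    (fun s m hm => Sigma.hom_ext _ _ fun i =>
      (congrArg (fun g => g ≫ m) (hc i)).symm.trans ((hm (e i)).trans
        (Sigma.ι_desc (f := Y) (fun i => s.inj (e i)) i).symm))⟩

section TotalSplit

variable (S : ShortComplex (HomologicalComplex₂ A up up))
  [S.X₁.HasTotal up] [S.X₂.HasTotal up] [S.X₃.HasTotal up]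

/-- The short complex of total complexes. -/
def totSc : ShortComplex (HomologicalComplex A up) :=
  ShortComplex.mk (X₁ := S.X₁.total up) (X₂ := S.X₂.total up) (X₃ := S.X₃.total up)
    (HomologicalComplex₂.total.map S.f up) (HomologicalComplex₂.total.map S.g up) (by
    ext n p q h
    rw [HomologicalComplex.comp_f, HomologicalComplex₂.ιTotal_map_assoc,
      HomologicalComplex₂.ιTotal_map, ← Category.assoc, HomologicalComplex.zero_f, comp_zero]
    have : (S.f.f p).f q ≫ (S.g.f p).f q = 0 := (pt S p q).zero
    rw [this, zero_comp])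

lemma totSc_shortExact (σ : ∀ p q, (pt S p q).Splitting) : (totSc S).ShortExact := by
  refine HomologicalComplex.shortExact_of_degreewise_shortExact _ fun n => ?_
  let r : ∀ p q, (S.X₂.X p).X q ⟶ (S.X₁.X p).X q := fun p q => (σ p q).r
  let s : ∀ p q, (S.X₃.X p).X q ⟶ (S.X₂.X p).X q := fun p q => (σ p q).s
  have hfr : ∀ p q, (S.f.f p).f q ≫ r p q = 𝟙 _ := fun p q => (σ p q).f_r
  have hsg : ∀ p q, s p q ≫ (S.g.f p).f q = 𝟙 _ := fun p q => (σ p q).s_g
  have hid : ∀ p q, r p q ≫ (S.f.f p).f q + (S.g.f p).f q ≫ s p q = 𝟙 _ := fun p q => (σ p q).id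
  let R : (S.X₂.total up).X n ⟶ (S.X₁.total up).X n :=
    S.X₂.totalDesc fun p q h => r p q ≫ S.X₁.ιTotal up p q n h
  let T : (S.X₃.total up).X n ⟶ (S.X₂.total up).X n :=
    S.X₃.totalDesc fun p q h => s p q ≫ S.X₂.ιTotal up p q n h
  have e₁ : (HomologicalComplex₂.total.map S.f up).f n ≫ R = 𝟙 _ :=
    HomologicalComplex₂.total.hom_ext _ fun p q h => by
      rw [HomologicalComplex₂.ιTotal_map_assoc, HomologicalComplex₂.ι_totalDesc, ← Category.assoc,
        hfr, Category.id_comp, Category.comp_id]
  have e₂ : T ≫ (HomologicalComplex₂.total.map S.g up).f n = 𝟙 _ :=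
    HomologicalComplex₂.total.hom_ext _ fun p q h => by
      rw [HomologicalComplex₂.ι_totalDesc_assoc, Category.assoc, HomologicalComplex₂.ιTotal_map,
        ← Category.assoc, hsg, Category.id_comp, Category.comp_id]
  have e₃ : R ≫ (HomologicalComplex₂.total.map S.f up).f n +
      (HomologicalComplex₂.total.map S.g up).f n ≫ T = 𝟙 _ :=
    HomologicalComplex₂.total.hom_ext _ fun p q h => by
      rw [Preadditive.comp_add, HomologicalComplex₂.ι_totalDesc_assoc,
        HomologicalComplex₂.ιTotal_map_assoc, HomologicalComplex₂.ι_totalDesc, Category.assoc,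
        HomologicalComplex₂.ιTotal_map, ← Category.assoc, ← Category.assoc,
        ← Preadditive.add_comp, hid, Category.id_comp, Category.comp_id]
  exact ShortComplex.Splitting.shortExact { r := R, s := T, f_r := e₁, s_g := e₂, id := e₃ }

end TotalSplit

section OneRow

variable (E : HomologicalComplex₂ A up up) [E.HasTotal up] (b : ℤ)

lemma isIso_ιTotal (hE : ∀ p q, q ≠ b → IsZero ((E.X p).X q)) (p n : ℤ) (h : p + b = n) :
    IsIso (E.ιTotal up p b n h) := by
  classical
  refine ⟨E.totalDesc fun p' q' h' => if hq : p' = p ∧ q' = b then eqToHom (by rw [hq.1, hq.2]) else 0,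
    ?_, ?_⟩
  · rw [HomologicalComplex₂.ι_totalDesc]
    simp
  · refine HomologicalComplex₂.total.hom_ext _ fun p' q' h' => ?_
    have h'' : p' + q' = n := h'
    by_cases hq : q' = b
    · subst hq
      obtain rfl : p' = p := by omega
      simp
    · exact (hE p' q' hq).eq_of_src _ _

lemma ι_total_d (hE : ∀ p q, q ≠ b → IsZero ((E.X p).X q)) (p p' n n' : ℤ) (hp : p + 1 = p')
    (h : p + b = n) (h' : p' + b = n') :
    E.ιTotal up p b n h ≫ (E.total up).d n n' = (E.d p p').f b ≫ E.ιTotal up p' b n' h' := by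
  change E.ιTotal up p b n h ≫ (E.D₁ up n n' + E.D₂ up n n') = _
  rw [Preadditive.comp_add, HomologicalComplex₂.ι_D₁, HomologicalComplex₂.ι_D₂,
    E.d₁_eq up (show (up).Rel p p' by simp [hp]) b n' (by simpa using h'),
    E.d₂_eq up p (show (up).Rel b (b + 1) by simp) n' (by simp; omega)]
  have h0 : (E.X p).d b (b + 1) = 0 := (hE p (b + 1) (by omega)).eq_of_tgt _ _
  simp [h0]

variable {E}

lemma quasiIsoAt_total_of_oneRow {E' : HomologicalComplex₂ A up up} [E'.HasTotal up]
    (hE : ∀ p q, q ≠ b → IsZero ((E.X p).X q)) (hE' : ∀ p q, q ≠ b → IsZero ((E'.X p).X q))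
    (φ : E ⟶ E') (hφ : QuasiIso ((rowF b).map φ)) (n : ℤ) :
    QuasiIsoAt (HomologicalComplex₂.total.map φ up) n := by
  obtain ⟨p, rfl⟩ : ∃ p, p + b = n := ⟨n - b, by omega⟩
  rw [quasiIsoAt_iff' _ (p - 1 + b) (p + b) (p + 1 + b) (by simp; omega) (by simp; omega)]
  have hp : QuasiIsoAt ((rowF b).map φ) p := inferInstance
  rw [quasiIsoAt_iff' _ (p - 1) p (p + 1) (by simp) (by simp)] at hp
  have iso : ∀ (G : HomologicalComplex₂ A up up) [G.HasTotal up]
      (_ : ∀ p q, q ≠ b → IsZero ((G.X p).X q)),
      ∃ e : ((rowF b).obj G).sc' (p - 1) p (p + 1) ≅ (G.total up).sc' (p - 1 + b) (p + b) (p + 1 + b),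
        e.hom.τ₁ = G.ιTotal up (p - 1) b (p - 1 + b) rfl ∧ e.hom.τ₂ = G.ιTotal up p b (p + b) rfl ∧
          e.hom.τ₃ = G.ιTotal up (p + 1) b (p + 1 + b) rfl := by
    intro G _ hG
    have i₁ := isIso_ιTotal G b hG (p - 1) _ rfl
    have i₂ := isIso_ιTotal G b hG p _ rfl
    have i₃ := isIso_ιTotal G b hG (p + 1) _ rfl
    exact ⟨ShortComplex.isoMk (@asIso _ _ _ _ (G.ιTotal up (p - 1) b (p - 1 + b) rfl) i₁)
      (@asIso _ _ _ _ (G.ιTotal up p b (p + b) rfl) i₂)
      (@asIso _ _ _ _ (G.ιTotal up (p + 1) b (p + 1 + b) rfl) i₃)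
      (ι_total_d G b hG (p - 1) p _ _ (by omega) rfl rfl)
      (ι_total_d G b hG p (p + 1) _ _ rfl rfl rfl), rfl, rfl, rfl⟩
  obtain ⟨e₁, a₁, a₂, a₃⟩ := iso E hE
  obtain ⟨e₂, b₁, b₂, b₃⟩ := iso E' hE'
  refine (ShortComplex.quasiIso_iff_of_arrow_mk_iso
    ((HomologicalComplex.shortComplexFunctor' A up (p - 1) p (p + 1)).map ((rowF b).map φ))
    ((HomologicalComplex.shortComplexFunctor' A up (p - 1 + b) (p + b) (p + 1 + b)).map
      (HomologicalComplex₂.total.map φ up)) (Arrow.isoMk e₁ e₂ ?_)).1 hp
  ext
  · change e₁.hom.τ₁ ≫ (HomologicalComplex₂.total.map φ up).f (p - 1 + b) =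
      (φ.f (p - 1)).f b ≫ e₂.hom.τ₁
    rw [a₁, b₁]
    exact HomologicalComplex₂.ιTotal_map ..
  · change e₁.hom.τ₂ ≫ (HomologicalComplex₂.total.map φ up).f (p + b) = (φ.f p).f b ≫ e₂.hom.τ₂
    rw [a₂, b₂]
    exact HomologicalComplex₂.ιTotal_map ..
  · change e₁.hom.τ₃ ≫ (HomologicalComplex₂.total.map φ up).f (p + 1 + b) =
      (φ.f (p + 1)).f b ≫ e₂.hom.τ₃
    rw [a₃, b₃]
    exact HomologicalComplex₂.ιTotal_map ..

end OneRow

section Peel

/-- The lowest row of a double complex. -/
def bot (K : HomologicalComplex₂ A up up) (b : ℤ) : HomologicalComplex₂ A up up :=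
  ((HomologicalComplex.single A up b).mapHomologicalComplex up).obj ((rowF b).obj K)

lemma bot_zero (K : HomologicalComplex₂ A up up) (b p q : ℤ) (h : q ≠ b) :
    IsZero (((bot K b).X p).X q) :=
  HomologicalComplex.isZero_single_obj_X up b _ q h

variable {a b : ℤ}

/-- The projection to the lowest row. -/
def toBot {K : HomologicalComplex₂ A up up} (hK : Bdd K a b) : K ⟶ bot K b where
  f p := HomologicalComplex.mkHomToSingle (𝟙 ((K.X p).X b))
    (fun j (hj : j + 1 = b) => (hK p j (Or.inr (by omega))).eq_of_src _ _)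
  comm' i j _ := by
    apply HomologicalComplex.to_single_hom_ext
    simp [bot, HomologicalComplex.single_map_f_self]
    erw [Category.id_comp, Category.id_comp, Iso.inv_hom_id_assoc]
    rfl

lemma isIso_toBot_f {K : HomologicalComplex₂ A up up} (hK : Bdd K a b) (p : ℤ) :
    IsIso (((toBot hK).f p).f b) := by
  simp only [toBot, HomologicalComplex.mkHomToSingle_f]
  exact IsIso.comp_isIso' (IsIso.id _) (Iso.isIso_inv _)

/-- The short complex peeling off the lowest row. -/
def peel {K : HomologicalComplex₂ A up up} (hK : Bdd K a b) :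
    ShortComplex (HomologicalComplex₂ A up up) :=
  ShortComplex.mk (kernel.ι (toBot hK)) (toBot hK) (kernel.condition _)

lemma peel_shortExact {K : HomologicalComplex₂ A up up} (hK : Bdd K a b) :
    (peel hK).ShortExact := by
  have : Epi (toBot hK) := by
    refine HomologicalComplex.epi_of_epi_f _ fun p => HomologicalComplex.epi_of_epi_f _ fun q => ?_
    by_cases hq : q = b
    · subst hq
      have := isIso_toBot_f hK p
      infer_instance
    · exact (bot_zero K b p q hq).epi _
  exact { exact := ShortComplex.exact_of_f_is_kernel _ (kernelIsKernel (toBot hK))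
          mono_f := inferInstanceAs (Mono (kernel.ι (toBot hK)))
          epi_g := this }

lemma pt_shortExact {K : HomologicalComplex₂ A up up} (hK : Bdd K a b) (p q : ℤ) :
    (pt (peel hK) p q).ShortExact :=
  ((peel_shortExact hK).map_of_exact
    (HomologicalComplex.eval (HomologicalComplex A up) up p)).map_of_exact
    (HomologicalComplex.eval A up q)

lemma peel_isZero {K : HomologicalComplex₂ A up up} (hK : Bdd K a b) (p : ℤ) :
    IsZero (((peel hK).X₁.X p).X b) := by
  have hm := (pt_shortExact hK p b).mono_f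
  have := isIso_toBot_f hK p
  refine @IsZero.of_mono_eq_zero A _ _ _ _ ((pt (peel hK) p b).f) hm ?_
  change ((kernel.ι (toBot hK)).f p).f b = 0
  rw [← cancel_mono (((toBot hK).f p).f b), zero_comp]
  exact (pt (peel hK) p b).zero

lemma peel_bdd {K : HomologicalComplex₂ A up up} (hK : Bdd K a b) :
    Bdd (peel hK).X₁ a (b + 1) := by
  intro p q h
  by_cases hq : q = b
  · subst hq; exact peel_isZero hK p
  · have hm := (pt_shortExact hK p q).mono_f
    exact @IsZero.of_mono A _ _ _ _ (pt (peel hK) p q).f hm (hK p q (h.imp id (by omega)))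

lemma peel_splitting {K : HomologicalComplex₂ A up up} (hK : Bdd K a b) (p q : ℤ) :
    Nonempty (pt (peel hK) p q).Splitting := by
  by_cases hq : q = b
  · subst hq
    exact ⟨ShortComplex.Splitting.ofIsZeroOfIsIso _ (peel_isZero hK p) (isIso_toBot_f hK p)⟩
  · have hz : IsZero (pt (peel hK) p q).X₃ := bot_zero K b p q hq
    have : IsIso (pt (peel hK) p q).f :=
      (pt_shortExact hK p q).isIso_f_iff.2 hz
    exact ⟨ShortComplex.Splitting.ofIsIsoOfIsZero _ this hz⟩

lemma bot_bdd {K : HomologicalComplex₂ A up up} (hK : Bdd K a b) : Bdd (bot K b) a b := by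
  intro p q h
  by_cases hq : q = b
  · subst hq
    have : p < a := h.resolve_right (lt_irrefl _)
    exact (hK p q (Or.inl this)).of_iso (HomologicalComplex.singleObjXSelf up q _)
  · exact bot_zero K b p q hq

/-- The map induced on the lowest rows. -/
def botMap {K L : HomologicalComplex₂ A up up} (φ : K ⟶ L) (b : ℤ) : bot K b ⟶ bot L b :=
  ((HomologicalComplex.single A up b).mapHomologicalComplex up).map ((rowF b).map φ)

lemma toBot_naturality {K L : HomologicalComplex₂ A up up} (hK : Bdd K a b) (hL : Bdd L a b)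
    (φ : K ⟶ L) : toBot hK ≫ botMap φ b = φ ≫ toBot hL := by
  ext1 p
  apply HomologicalComplex.to_single_hom_ext
  simp [toBot, botMap, HomologicalComplex.single_map_f_self]
  erw [Category.id_comp, Category.id_comp, Iso.inv_hom_id_assoc]
  rfl

/-- The map induced on the peeled short complexes. -/
def peelMap {K L : HomologicalComplex₂ A up up} (hK : Bdd K a b) (hL : Bdd L a b) (φ : K ⟶ L) :
    peel hK ⟶ peel hL where
  τ₁ := kernel.lift _ (kernel.ι (toBot hK) ≫ φ) (by
    rw [Category.assoc, ← toBot_naturality hK hL φ, ← Category.assoc]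
    exact (congrArg (fun t => t ≫ botMap φ b) (kernel.condition (toBot hK))).trans zero_comp)
  τ₂ := φ
  τ₃ := botMap φ b
  comm₁₂ := kernel.lift_ι _ _ _
  comm₂₃ := (toBot_naturality hK hL φ).symm

lemma quasiIso_row_peelMap {K L : HomologicalComplex₂ A up up} (hK : Bdd K a b) (hL : Bdd L a b)
    (φ : K ⟶ L) (hφ : ∀ q, QuasiIso ((rowF q).map φ)) (q : ℤ) :
    QuasiIso ((rowF q).map (peelMap hK hL φ).τ₁) := by
  by_cases hq : q = b
  · subst hq
    have : IsIso ((rowF q).map (peelMap hK hL φ).τ₁) := by
      have : ∀ p, IsIso (((rowF q).map (peelMap hK hL φ).τ₁).f p) :=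
        fun p => isIso_of_source_target_iso_zero _ (peel_isZero hK p).isoZero
          (peel_isZero hL p).isoZero
      exact HomologicalComplex.Hom.isIso_of_components _
    infer_instance
  · have key : ∀ (M : HomologicalComplex₂ A up up) (hM : Bdd M a b),
        IsIso ((rowF q).map (peel hM).f) := fun M hM => by
      have : ∀ p, IsIso (((rowF q).map (peel hM).f).f p) :=
        fun p => (pt_shortExact hM p q).isIso_f_iff.2 (bot_zero M b p q hq)
      exact HomologicalComplex.Hom.isIso_of_components _
    have iK := key K hK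
    have iL := key L hL
    have h : (rowF q).map (peelMap hK hL φ).τ₁ ≫ (rowF q).map (peel hL).f =
        (rowF q).map (peel hK).f ≫ (rowF q).map φ := by
      refine ((rowF q).map_comp _ _).symm.trans ?_
      exact (congrArg (rowF q).map (peelMap hK hL φ).comm₁₂).trans ((rowF q).map_comp _ _)
    have qK : QuasiIso ((rowF q).map (peel hK).f) := inferInstance
    have qL : QuasiIso ((rowF q).map (peel hL).f) := inferInstance
    have qφ := hφ q
    have : QuasiIso ((rowF q).map (peelMap hK hL φ).τ₁ ≫ (rowF q).map (peel hL).f) := by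
      rw [h]
      exact @quasiIso_comp _ _ _ _ _ _ _ _ _ _ _ _ _ qK qφ
    exact quasiIso_of_comp_right _ ((rowF q).map (peel hL).f)

/-- The lowest row, as a complex. -/
def rowBotIso (G : HomologicalComplex₂ A up up) (b : ℤ) :
    (rowF b).obj G ≅ (rowF b).obj (bot G b) :=
  HomologicalComplex.Hom.isoOfComponents
    (fun p => (HomologicalComplex.singleObjXSelf up b (((rowF b).obj G).X p)).symm)
    (fun i j _ => by
      change _ ≫ ((HomologicalComplex.single A up b).map (((rowF b).obj G).d i j)).f b = _
      rw [HomologicalComplex.single_map_f_self]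
      exact Iso.inv_hom_id_assoc _ _)

lemma quasiIsoAt_total_botMap {K L : HomologicalComplex₂ A up up} [(bot K b).HasTotal up]
    [(bot L b).HasTotal up] (φ : K ⟶ L) (hφ : QuasiIso ((rowF b).map φ)) (n : ℤ) :
    QuasiIsoAt (HomologicalComplex₂.total.map (botMap φ b) up) n := by
  refine quasiIsoAt_total_of_oneRow b (bot_zero K b) (bot_zero L b) _ ?_ n
  refine (quasiIso_iff_of_arrow_mk_iso ((rowF b).map φ) _
    (Arrow.isoMk (rowBotIso K b) (rowBotIso L b) ?_)).1 hφ
  ext p
  change _ ≫ ((HomologicalComplex.single A up b).map (((rowF b).map φ).f p)).f b = _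
  rw [HomologicalComplex.single_map_f_self]
  exact Iso.inv_hom_id_assoc _ _

end Peel

variable {a : ℤ}

lemma isZero_total_X {K : HomologicalComplex₂ A up up} [K.HasTotal up] {b : ℤ} (hK : Bdd K a b)
    (n : ℤ) (hn : n < a + b) : IsZero ((K.total up).X n) := by
  rw [IsZero.iff_id_eq_zero]
  refine HomologicalComplex₂.total.hom_ext _ fun p q h => ?_
  exact (hK p q (by have : p + q = n := h; omega)).eq_of_src _ _

open ComposableArrows in
lemma mono_total (k : ℕ) : ∀ (b n : ℤ), n < a + b + k → ∀ (K L : HomologicalComplex₂ A up up)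
    [K.HasTotal up] [L.HasTotal up] (_ : Bdd K a b) (_ : Bdd L a b) (φ : K ⟶ L)
    (_ : ∀ q, QuasiIso ((rowF q).map φ)),
    Mono (HomologicalComplex.homologyMap (HomologicalComplex₂.total.map φ up) n) := by
  induction k with
  | zero =>
    intro b n hn K L _ _ hK hL φ hφ
    refine (IsZero.mono ?_ _)
    exact HomologicalComplex.ExactAt.isZero_homology
      (ShortComplex.exact_of_isZero_X₂ _ (isZero_total_X hK n (by simpa using hn)))
  | succ k ih =>
    intro b n hn K L _ _ hK hL φ hφ
    have h₁K : (peel hK).X₁.HasTotal up := hasTotal_of_bdd _ _ _ (peel_bdd hK)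
    have h₁L : (peel hL).X₁.HasTotal up := hasTotal_of_bdd _ _ _ (peel_bdd hL)
    have h₃K : (bot K b).HasTotal up := hasTotal_of_bdd _ _ _ (bot_bdd hK)
    have h₃L : (bot L b).HasTotal up := hasTotal_of_bdd _ _ _ (bot_bdd hL)
    have : (peel hK).X₂.HasTotal up := ‹K.HasTotal up›
    have : (peel hL).X₂.HasTotal up := ‹L.HasTotal up›
    have : (peel hK).X₃.HasTotal up := h₃K
    have : (peel hL).X₃.HasTotal up := h₃L
    have eK := totSc_shortExact (peel hK) fun p q => (peel_splitting hK p q).some
    have eL := totSc_shortExact (peel hL) fun p q => (peel_splitting hL p q).some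
    let Φ : totSc (peel hK) ⟶ totSc (peel hL) :=
      { τ₁ := HomologicalComplex₂.total.map (peelMap hK hL φ).τ₁ up
        τ₂ := HomologicalComplex₂.total.map φ up
        τ₃ := HomologicalComplex₂.total.map (botMap φ b) up
        comm₁₂ := by
          change HomologicalComplex₂.total.map _ up ≫ HomologicalComplex₂.total.map _ up =
            HomologicalComplex₂.total.map _ up ≫ HomologicalComplex₂.total.map _ up
          rw [← HomologicalComplex₂.total.map_comp, ← HomologicalComplex₂.total.map_comp]
          exact congrArg (fun f => HomologicalComplex₂.total.map f up) (peelMap hK hL φ).comm₁₂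
        comm₂₃ := by
          change HomologicalComplex₂.total.map φ up ≫ HomologicalComplex₂.total.map _ up =
            HomologicalComplex₂.total.map _ up ≫ HomologicalComplex₂.total.map _ up
          rw [← HomologicalComplex₂.total.map_comp, ← HomologicalComplex₂.total.map_comp]
          exact congrArg (fun f => HomologicalComplex₂.total.map f up) (peelMap hK hL φ).comm₂₃ }
    obtain ⟨i, hi⟩ : ∃ i, i + 1 = n := ⟨n - 1, by omega⟩
    have hbot := fun m => (quasiIsoAt_iff_isIso_homologyMap _ m).1
      (quasiIsoAt_total_botMap (b := b) φ (hφ b) m)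
    exact Abelian.mono_of_epi_of_mono_of_mono
      ((δ₀Functor ⋙ δ₀Functor).map
        (HomologicalComplex.HomologySequence.mapComposableArrows₅ Φ eK eL i n hi))
      (HomologicalComplex.HomologySequence.composableArrows₅_exact eK i n hi).δ₀.δ₀
      (HomologicalComplex.HomologySequence.composableArrows₅_exact eL i n hi).δ₀.δ₀
      (@IsIso.epi_of_iso _ _ _ _ _ (hbot i))
      (ih (b + 1) n (by push_cast at hn; omega) _ _ (peel_bdd hK) (peel_bdd hL) _
        (quasiIso_row_peelMap hK hL φ hφ))
      (@IsIso.mono_of_iso _ _ _ _ _ (hbot n))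

open ComposableArrows in
lemma epi_total (k : ℕ) : ∀ (b n : ℤ), n < a + b + k → ∀ (K L : HomologicalComplex₂ A up up)
    [K.HasTotal up] [L.HasTotal up] (_ : Bdd K a b) (_ : Bdd L a b) (φ : K ⟶ L)
    (_ : ∀ q, QuasiIso ((rowF q).map φ)),
    Epi (HomologicalComplex.homologyMap (HomologicalComplex₂.total.map φ up) n) := by
  induction k with
  | zero =>
    intro b n hn K L _ _ hK hL φ hφ
    refine (IsZero.epi ?_ _)
    exact HomologicalComplex.ExactAt.isZero_homology
      (ShortComplex.exact_of_isZero_X₂ _ (isZero_total_X hL n (by simpa using hn)))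
  | succ k ih =>
    intro b n hn K L _ _ hK hL φ hφ
    have h₁K : (peel hK).X₁.HasTotal up := hasTotal_of_bdd _ _ _ (peel_bdd hK)
    have h₁L : (peel hL).X₁.HasTotal up := hasTotal_of_bdd _ _ _ (peel_bdd hL)
    have h₃K : (bot K b).HasTotal up := hasTotal_of_bdd _ _ _ (bot_bdd hK)
    have h₃L : (bot L b).HasTotal up := hasTotal_of_bdd _ _ _ (bot_bdd hL)
    have : (peel hK).X₂.HasTotal up := ‹K.HasTotal up›
    have : (peel hL).X₂.HasTotal up := ‹L.HasTotal up›
    have : (peel hK).X₃.HasTotal up := h₃K
    have : (peel hL).X₃.HasTotal up := h₃L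
    have eK := totSc_shortExact (peel hK) fun p q => (peel_splitting hK p q).some
    have eL := totSc_shortExact (peel hL) fun p q => (peel_splitting hL p q).some
    let Φ : totSc (peel hK) ⟶ totSc (peel hL) :=
      { τ₁ := HomologicalComplex₂.total.map (peelMap hK hL φ).τ₁ up
        τ₂ := HomologicalComplex₂.total.map φ up
        τ₃ := HomologicalComplex₂.total.map (botMap φ b) up
        comm₁₂ := by
          change HomologicalComplex₂.total.map _ up ≫ HomologicalComplex₂.total.map _ up =
            HomologicalComplex₂.total.map _ up ≫ HomologicalComplex₂.total.map _ up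
          rw [← HomologicalComplex₂.total.map_comp, ← HomologicalComplex₂.total.map_comp]
          exact congrArg (fun f => HomologicalComplex₂.total.map f up) (peelMap hK hL φ).comm₁₂
        comm₂₃ := by
          change HomologicalComplex₂.total.map φ up ≫ HomologicalComplex₂.total.map _ up =
            HomologicalComplex₂.total.map _ up ≫ HomologicalComplex₂.total.map _ up
          rw [← HomologicalComplex₂.total.map_comp, ← HomologicalComplex₂.total.map_comp]
          exact congrArg (fun f => HomologicalComplex₂.total.map f up) (peelMap hK hL φ).comm₂₃ }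
    have hbot := fun m => (quasiIsoAt_iff_isIso_homologyMap _ m).1
      (quasiIsoAt_total_botMap (b := b) φ (hφ b) m)
    exact Abelian.epi_of_epi_of_epi_of_mono
      ((δlastFunctor ⋙ δlastFunctor).map
        (HomologicalComplex.HomologySequence.mapComposableArrows₅ Φ eK eL n (n + 1) rfl))
      (HomologicalComplex.HomologySequence.composableArrows₅_exact eK n (n + 1) rfl).δlast.δlast
      (HomologicalComplex.HomologySequence.composableArrows₅_exact eL n (n + 1) rfl).δlast.δlast
      (ih (b + 1) n (by push_cast at hn; omega) _ _ (peel_bdd hK) (peel_bdd hL) _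
        (quasiIso_row_peelMap hK hL φ hφ))
      (@IsIso.epi_of_iso _ _ _ _ _ (hbot n))
      (mono_total (k + 1) (b + 1) (n + 1) (by omega) _ _ (peel_bdd hK) (peel_bdd hL) _
        (quasiIso_row_peelMap hK hL φ hφ))

theorem quasiIso_total_map {K L : HomologicalComplex₂ A up up} (φ : K ⟶ L) (b : ℤ)
    (hK : Bdd K a b) (hL : Bdd L a b) [K.HasTotal up] [L.HasTotal up]
    (hφ : ∀ q, QuasiIso ((rowF q).map φ)) :
    QuasiIso (HomologicalComplex₂.total.map φ up) := by
  rw [quasiIso_iff]
  intro n
  rw [quasiIsoAt_iff_isIso_homologyMap]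
  have := mono_total (A := A) (a := a) (n - a - b + 1).toNat b n (by omega) K L hK hL φ hφ
  have := epi_total (A := A) (a := a) (n - a - b + 1).toNat b n (by omega) K L hK hL φ hφ
  exact isIso_of_mono_of_epi _

end Groth.TotQIso
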